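import Groth.Agent.H7Flat.InjectiveModMax
import Groth.Agent.H8Props.FibreStalk
import Groth.Agent.H29Omega.UnivThickStalk
import Groth.Agent.H29Omega.ConormalStalk
import Groth.Agent.H29Fitt.Sheaf
import Groth.Agent.H29Blow.PointsOfAffine
import Groth.Agent.H29Ref.Generic

/-!
# Injectivity and surjectivity on stalks from the fibre; generisation
-/

set_option autoImplicit false
set_option linter.style.haveILetI false

universe u

open CategoryTheory CategoryTheory.Limits AlgebraicGeometry Opposite TopologicalSpace TensorProduct IsLocalRing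

namespace Groth.Agent.H10Coh.FibreLift

open Groth.Agent.H06Mod

variable {X Y : Scheme.{u}} {F G : X.Modules}

theorem app_injective_of_mono (u : F ⟶ G) [Mono u] (U : X.Opens) : Function.Injective (u.app U) := by
  let T : X.Modules ⥤ AddCommGrpCat.{u} :=
    Scheme.Modules.toPresheaf X ⋙ (evaluation (Opens X)ᵒᵖ AddCommGrpCat.{u}).obj (op U)
  haveI : PreservesFiniteLimits (Scheme.Modules.toPresheaf X) :=
    PreservesLimitsOfSize.preservesFiniteLimits _
  haveI : PreservesFiniteLimits ((evaluation (Opens X)ᵒᵖ AddCommGrpCat.{u}).obj (op U)) :=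
    PreservesLimitsOfSize.preservesFiniteLimits _
  haveI : PreservesFiniteLimits T := comp_preservesFiniteLimits _ _
  haveI : Mono (T.map u) := T.map_mono u
  exact (AddCommGrpCat.mono_iff_injective (T.map u)).mp inferInstance

theorem injective_stalkLin_of_mono (u : F ⟶ G) [Mono u] (x : X) : Function.Injective (stalkLin u x) :=
  TopCat.Presheaf.stalkFunctor_map_injective_of_app_injective (f := u.mapPresheaf)
    (fun U => app_injective_of_mono u U) x

/-- The kernel of the map from a local ring to that of the fibre. -/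
theorem ker_stalkMap_fiberι (f : X ⟶ Y) (y : Y) (z : f.fiber y) :
    RingHom.ker ((f.fiberι y).stalkMap z).hom =
      (maximalIdeal (Y.presheaf.stalk (f (f.fiberι y z)))).map (f.stalkMap (f.fiberι y z)).hom := by
  have key : ∀ (x : X) (hz : f.fiberι y z = x) (_ : f x = y),
      RingHom.ker (H8Props.FibreStalk.toFibre f x y z hz).hom =
        (maximalIdeal (Y.presheaf.stalk (f x))).map (f.stalkMap x).hom := by
    intro x hz hx
    subst hx
    exact H8Props.FibreStalk.ker_toFibre f x z hz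
  have h := key _ rfl (by
    have : f.fiberι y z ∈ Set.range (f.fiberι y) := ⟨z, rfl⟩
    rwa [f.range_fiberι] at this)
  rw [← h]
  simp [H8Props.FibreStalk.toFibre, TopCat.Presheaf.stalkCongr]

section Algebra

variable {R S M : Type u} [CommRing R] [CommRing S] [Algebra R S] [AddCommGroup M] [Module R M]

theorem one_tmul_eq_zero_iff (hs : Function.Surjective (algebraMap R S)) (m : M) :
    (1 : S) ⊗ₜ[R] m = 0 ↔ m ∈ RingHom.ker (algebraMap R S) • (⊤ : Submodule R M) := by
  let e : (R ⧸ RingHom.ker (algebraMap R S)) ≃ₐ[R] S :=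
    Ideal.quotientKerAlgEquivOfSurjective (f := Algebra.ofId R S) hs
  rw [← (TensorProduct.congr e.toLinearEquiv (LinearEquiv.refl R M)).symm.map_eq_zero_iff,
    TensorProduct.congr_symm_tmul, show e.toLinearEquiv.symm (1 : S) = 1 from map_one e.symm,
    ← (TensorProduct.quotTensorEquivQuotSMul M (RingHom.ker (algebraMap R S))).map_eq_zero_iff]
  rw [show (1 : R ⧸ RingHom.ker (algebraMap R S)) = Ideal.Quotient.mk _ 1 from rfl,
    TensorProduct.quotTensorEquivQuotSMul_mk_tmul, one_smul, Submodule.Quotient.mk_eq_zero]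
  rfl

end Algebra

variable (f : X ⟶ Y)

attribute [local instance] Groth.Agent.H06Mod.stalkAlgebra

/-- Surjectivity at a point of a fibre from surjectivity on the fibre. -/
theorem surjective_stalk_of_fibre (hG : CohB1.IsFT G) (u : F ⟶ G) (y : Y) (z : f.fiber y)
    (h : Function.Surjective (stalkLin ((Scheme.Modules.pullback (f.fiberι y)).map u) z)) :
    Function.Surjective (stalkLin u (f.fiberι y z)) := by
  let x := f.fiberι y z
  haveI := H29Ref.finite_stalk G hG x
  have hs : Function.Surjective (algebraMap (X.presheaf.stalk x) ((f.fiber y).presheaf.stalk z)) :=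
    (f.fiberι y).stalkMap_surjective z
  let J := RingHom.ker (algebraMap (X.presheaf.stalk x) ((f.fiber y).presheaf.stalk z))
  have hJ : J ≤ Ideal.jacobson ⊥ := by
    refine le_trans ?_ (IsLocalRing.maximalIdeal_le_jacobson _)
    exact IsLocalRing.le_maximalIdeal (RingHom.ker_ne_top _)
  rw [← LinearMap.range_eq_top, eq_top_iff]
  refine Submodule.le_of_le_smul_of_le_jacobson_bot Module.Finite.fg_top hJ fun v _ => ?_
  obtain ⟨t, ht⟩ := (H06Mod.pullStalkEquiv (f.fiberι y) F z).surjective.exists.1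
    (h (H06Mod.pullStalkEquiv (f.fiberι y) G z (1 ⊗ₜ v)))
  rw [H29Omega.stalkLin_pullback_map] at ht
  have ht' := (H06Mod.pullStalkEquiv (f.fiberι y) G z).injective ht
  obtain ⟨w, rfl⟩ := TensorProduct.mk_surjective (X.presheaf.stalk x) (F.presheaf.stalk x)
    ((f.fiber y).presheaf.stalk z) hs t
  rw [TensorProduct.mk_apply, LinearMap.baseChange_tmul] at ht'
  have h1 : (1 : (f.fiber y).presheaf.stalk z) ⊗ₜ[X.presheaf.stalk x] (v - stalkLin u x w) = 0 := by
    rw [TensorProduct.tmul_sub, ht', sub_self]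
  exact Submodule.mem_sup.2 ⟨_, ⟨w, rfl⟩, _, (one_tmul_eq_zero_iff hs _).1 h1, by abel⟩

/-- Injectivity at a point of a fibre from injectivity on the fibre, when the target is flat over the base. -/
theorem injective_stalk_of_fibre [IsLocallyNoetherian X] (hF : CohB1.IsFT F)
    (hG : FlatMod.IsFlatOver f G) (u : F ⟶ G) (y : Y) (z : f.fiber y)
    (h : Function.Injective (stalkLin ((Scheme.Modules.pullback (f.fiberι y)).map u) z)) :
    Function.Injective (stalkLin u (f.fiberι y z)) := by
  let x := f.fiberι y z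
  haveI := H29Ref.finite_stalk F hF x
  let R := Y.presheaf.stalk (f x)
  let O := X.presheaf.stalk x
  letI : Algebra R O := (f.stalkMap x).hom.toAlgebra
  letI := FlatMod.moduleStalkOver f G x
  letI := FlatMod.moduleStalkOver f F x
  haveI : IsScalarTower R O (F.presheaf.stalk x) := .of_algebraMap_smul fun _ _ => rfl
  haveI : IsScalarTower R O (G.presheaf.stalk x) := .of_algebraMap_smul fun _ _ => rfl
  haveI : Module.Flat R (G.presheaf.stalk x) := hG x
  haveI : IsLocalHom (algebraMap R O) := inferInstanceAs (IsLocalHom (f.stalkMap x).hom)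
  let uR : F.presheaf.stalk x →ₗ[R] G.presheaf.stalk x := (stalkLin u x).restrictScalars R
  have hs : Function.Surjective (algebraMap O ((f.fiber y).presheaf.stalk z)) :=
    (f.fiberι y).stalkMap_surjective z
  have hker : RingHom.ker (algebraMap O ((f.fiber y).presheaf.stalk z)) = (maximalIdeal R).map (algebraMap R O) :=
    ker_stalkMap_fiberι f y z
  refine (H7Flat.injective_and_flat_quotient (S := O) uR (H7Flat.lTensor_residueField_injective uR fun v hv => ?_)).1
  have hv' : stalkLin u x v ∈ ((maximalIdeal R).map (algebraMap R O) • (⊤ : Submodule O (G.presheaf.stalk x))) := by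
    rw [← Submodule.restrictScalars_mem R, Ideal.smul_restrictScalars, Submodule.restrictScalars_top]
    exact hv
  rw [← hker] at hv'
  have h1 : (1 : (f.fiber y).presheaf.stalk z) ⊗ₜ[O] v = 0 := by
    apply (H06Mod.pullStalkEquiv (f.fiberι y) F z).injective
    apply h
    rw [H29Omega.stalkLin_pullback_map, LinearMap.baseChange_tmul, (one_tmul_eq_zero_iff hs _).2 hv', map_zero,
      map_zero, map_zero]
  have h2 := (one_tmul_eq_zero_iff hs v).1 h1
  rw [hker, ← Submodule.restrictScalars_mem R, Ideal.smul_restrictScalars, Submodule.restrictScalars_top] at h2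
  exact h2

section Generise

theorem exists_germ_smul (hFq : Coh.IsQCoh F) {U : X.Opens} (hU : IsAffineOpen U) (x : X) (hx : x ∈ U)
    (v : F.presheaf.stalk x) : ∃ (m : Γ(F, U)) (s : Γ(X, U)), IsUnit (X.presheaf.germ U x hx s) ∧
      X.presheaf.germ U x hx s • v = F.presheaf.germ U x hx m := by
  letI := TopCat.Presheaf.algebra_section_stalk X.presheaf (⟨x, hx⟩ : U)
  letI := Module.compHom (F.presheaf.stalk x) (algebraMap Γ(X, U) (X.presheaf.stalk x))
  haveI := H29Fitt.isLocalizedModule_germLin F hFq hU ⟨x, hx⟩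
  obtain ⟨⟨m, s⟩, hms⟩ := IsLocalizedModule.surj (hU.primeIdealOf ⟨x, hx⟩).asIdeal.primeCompl
    (H29Fitt.germLin F ⟨x, hx⟩) v
  exact ⟨m, s.1, not_not.1 fun hn => s.2 ((H29Blow.mem_primeIdealOf_iff hU ⟨x, hx⟩ s.1).2 hn), hms⟩

theorem exists_smul_eq_zero (hFq : Coh.IsQCoh F) {U : X.Opens} (hU : IsAffineOpen U) (x : X) (hx : x ∈ U)
    (m : Γ(F, U)) (hm : F.presheaf.germ U x hx m = 0) :
    ∃ s : Γ(X, U), IsUnit (X.presheaf.germ U x hx s) ∧ s • m = 0 := by
  letI := TopCat.Presheaf.algebra_section_stalk X.presheaf (⟨x, hx⟩ : U)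
  letI := Module.compHom (F.presheaf.stalk x) (algebraMap Γ(X, U) (X.presheaf.stalk x))
  haveI := H29Fitt.isLocalizedModule_germLin F hFq hU ⟨x, hx⟩
  obtain ⟨s, hs⟩ := (IsLocalizedModule.eq_zero_iff (hU.primeIdealOf ⟨x, hx⟩).asIdeal.primeCompl
    (H29Fitt.germLin F ⟨x, hx⟩)).1 hm
  exact ⟨s.1, not_not.1 fun hn => s.2 ((H29Blow.mem_primeIdealOf_iff hU ⟨x, hx⟩ s.1).2 hn), hs⟩

theorem isUnit_germ_of_specializes {x x₀ : X} (h : x ⤳ x₀) {U : X.Opens} (hx₀ : x₀ ∈ U) (s : Γ(X, U))
    (hs : IsUnit (X.presheaf.germ U x₀ hx₀ s)) : IsUnit (X.presheaf.germ U x (h.mem_open U.2 hx₀) s) :=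
  (X.mem_basicOpen s x (h.mem_open U.2 hx₀)).1
    (h.mem_open (X.basicOpen s).2 ((X.mem_basicOpen s x₀ hx₀).2 hs))

/-- Injectivity on stalks generalises. -/
theorem injective_stalk_of_specializes (hFq : Coh.IsQCoh F) (hGq : Coh.IsQCoh G) (u : F ⟶ G) {x x₀ : X}
    (h : x ⤳ x₀) (h₀ : Function.Injective (stalkLin u x₀)) : Function.Injective (stalkLin u x) := by
  refine (injective_iff_map_eq_zero (stalkLin u x)).2 fun v hv => ?_
  obtain ⟨U, hU, hx₀, -⟩ := exists_isAffineOpen_mem_and_subset (U := (⊤ : X.Opens)) (x := x₀) trivial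
  have hx : x ∈ U := h.mem_open U.2 hx₀
  obtain ⟨m, s, hs, hsv⟩ := exists_germ_smul hFq hU x hx v
  have hm0 : G.presheaf.germ U x hx (u.app U m) = 0 := by
    rw [← stalkLin_germ, ← hsv, map_smul, hv, smul_zero]
  obtain ⟨t, ht, htm⟩ := exists_smul_eq_zero hGq hU x hx _ hm0
  have h0 : F.presheaf.germ U x₀ hx₀ (t • m) = 0 := h₀ (by
    rw [stalkLin_germ, Scheme.Modules.Hom.app_smul, htm, map_zero, map_zero])
  obtain ⟨r, hr, hrm⟩ := exists_smul_eq_zero hFq hU x₀ hx₀ _ h0
  have hz := congrArg (F.presheaf.germ U x hx) hrm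
  rw [smul_smul, H06Mod.germ_smul, map_zero, map_mul,
    ((isUnit_germ_of_specializes h hx₀ r hr).mul ht).smul_eq_zero, ← hsv, hs.smul_eq_zero] at hz
  exact hz

/-- Surjectivity on stalks generalises. -/
theorem surjective_stalk_of_specializes (hFq : Coh.IsQCoh F) (hGq : Coh.IsQCoh G) (u : F ⟶ G) {x x₀ : X}
    (h : x ⤳ x₀) (h₀ : Function.Surjective (stalkLin u x₀)) : Function.Surjective (stalkLin u x) := by
  intro v
  obtain ⟨U, hU, hx₀, -⟩ := exists_isAffineOpen_mem_and_subset (U := (⊤ : X.Opens)) (x := x₀) trivial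
  have hx : x ∈ U := h.mem_open U.2 hx₀
  obtain ⟨n, s, hs, hsv⟩ := exists_germ_smul hGq hU x hx v
  obtain ⟨w, hw⟩ := h₀ (G.presheaf.germ U x₀ hx₀ n)
  obtain ⟨m, r, hr, hrw⟩ := exists_germ_smul hFq hU x₀ hx₀ w
  have h0 : G.presheaf.germ U x₀ hx₀ (u.app U m - r • n) = 0 := by
    rw [map_sub, ← stalkLin_germ, ← hrw, map_smul, hw, H06Mod.germ_smul, sub_self]
  obtain ⟨t, ht, htm⟩ := exists_smul_eq_zero hGq hU x₀ hx₀ _ h0
  have hz := congrArg (G.presheaf.germ U x hx) htm
  rw [H06Mod.germ_smul, map_zero, (isUnit_germ_of_specializes h hx₀ t ht).smul_eq_zero, map_sub, sub_eq_zero,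
    ← stalkLin_germ, H06Mod.germ_smul, ← hsv, smul_smul] at hz
  obtain ⟨c, hc⟩ := ((isUnit_germ_of_specializes h hx₀ r hr).mul hs).exists_left_inv
  refine ⟨c • F.presheaf.germ U x hx m, ?_⟩
  rw [map_smul, hz, smul_smul, hc, one_smul]

end Generise

end Groth.Agent.H10Coh.FibreLift
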