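import Groth.Agent.LeadBC.Fibre
import Groth.Agent.H02CA.CokerProj

/-!
# Exactness at a point makes the previous differential quasi-invertible
-/

set_option autoImplicit false
set_option linter.unusedSectionVars false

universe u

open scoped TensorProduct

namespace Groth.Agent.H10Coh.FibreLift

open Groth.Agent.H02CA

variable {A : Type u} [CommRing A] {M N Q : Type u} [AddCommGroup M] [Module A M] [AddCommGroup N] [Module A N]
  [AddCommGroup Q] [Module A Q]

/-- Elements of `range (d ⊗ B)` read in `B ⊗ M`. -/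
theorem mem_range_baseChange_iff {B : Type u} [CommRing B] [Algebra A B] (d : M →ₗ[A] N) (z : B ⊗[A] N) :
    z ∈ LinearMap.range (d.baseChange B) ↔ TensorProduct.comm A B N z ∈ LinearMap.range (d.rTensor B) := by
  constructor
  · rintro ⟨w, rfl⟩
    exact ⟨TensorProduct.comm A B M w, (LeadBC.comm_baseChange d w).symm⟩
  · rintro ⟨w, hw⟩
    refine ⟨(TensorProduct.comm A B M).symm w, (TensorProduct.comm A B N).injective ?_⟩
    rw [LeadBC.comm_baseChange, LinearEquiv.apply_symm_apply, hw]

/-- If `M → N → Q` is exact at `k(p)`, then `M → N` has a quasi-inverse near `p`. -/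
theorem quasiInv_of_fibre_exact [IsNoetherianRing A] [Module.Finite A M] [Module.Finite A N]
    [Module.Projective A N] [Module.Finite A Q] [Module.Projective A Q] (d : M →ₗ[A] N) (e : N →ₗ[A] Q)
    (hde : e ∘ₗ d = 0) (p : Ideal A) [p.IsPrime]
    (h : ∀ z : N ⊗[A] p.ResidueField, e.rTensor p.ResidueField z = 0 →
      z ∈ LinearMap.range (d.rTensor p.ResidueField)) :
    CokerProj.QuasiInv d p.primeCompl := by
  let k := p.ResidueField
  let d' : M →ₗ[A] LinearMap.ker e := d.codRestrict _ fun m => LinearMap.congr_fun hde m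
  have hd' : (LinearMap.ker e).subtype ∘ₗ d' = d := LinearMap.ext fun m => rfl
  have hk : ∀ z : k ⊗[A] N, e.baseChange k z = 0 → z ∈ LinearMap.range (d.baseChange k) := fun z hz =>
    (mem_range_baseChange_iff d z).2 (h _ ((LeadBC.comm_baseChange e z).symm.trans
      ((congrArg (TensorProduct.comm A k Q) hz).trans (map_zero _))))
  obtain ⟨g, s, hs, hg⟩ := CokerProj.quasiInv_of_ker_baseChange_le (d := e) p fun z hz => by
    obtain ⟨w, hw⟩ := hk z hz
    refine ⟨d'.baseChange k w, ?_⟩
    rw [← LinearMap.comp_apply, ← LinearMap.baseChange_comp, hd', hw]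
  let P : N →ₗ[A] LinearMap.ker e :=
    (s • LinearMap.id - g ∘ₗ e).codRestrict _ fun n => by simp [hg]
  have hP : ∀ x : LinearMap.ker e, P x.1 = s • x := fun x => Subtype.ext (by
    show s • x.1 - g (e x.1) = s • x.1
    rw [LinearMap.mem_ker.1 x.2, map_zero, sub_zero])
  -- `k ⊗ (ker e / range d) = 0`
  have hsk : algebraMap A k s ≠ 0 := fun he => hs (Ideal.algebraMap_residueField_eq_zero.1 he)
  have hsurj : ∀ x : LinearMap.ker e, (1 : k) ⊗ₜ[A] x ∈ LinearMap.range (d'.baseChange k) := fun x => by
    obtain ⟨w, hw⟩ := hk ((1 : k) ⊗ₜ[A] x.1) (by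
      rw [LinearMap.baseChange_tmul, LinearMap.mem_ker.1 x.2, TensorProduct.tmul_zero])
    have h1 := congrArg (P.baseChange k) hw
    rw [LinearMap.baseChange_tmul, hP, TensorProduct.tmul_smul, ← LinearMap.comp_apply,
      ← LinearMap.baseChange_comp, show P ∘ₗ d = s • d' from LinearMap.ext fun m => hP (d' m),
      LinearMap.baseChange_smul, LinearMap.smul_apply] at h1
    refine ⟨w, smul_right_injective _ hsk ?_⟩
    simpa only [algebraMap_smul] using h1
  let K' : Submodule A (LinearMap.ker e) := LinearMap.range d'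
  have : Module.Finite A (LinearMap.ker e) := inferInstance
  have hsub : Subsingleton (k ⊗[A] ((LinearMap.ker e) ⧸ K')) := by
    refine subsingleton_of_forall_eq 0 fun z => ?_
    induction z using TensorProduct.induction_on with
    | zero => rfl
    | add a b ha hb => rw [ha, hb, add_zero]
    | tmul c y =>
      obtain ⟨x, rfl⟩ := K'.mkQ_surjective y
      obtain ⟨w, hw⟩ := hsurj x
      have h1 : (1 : k) ⊗ₜ[A] K'.mkQ x = 0 := by
        rw [← LinearMap.baseChange_tmul, ← hw, ← LinearMap.comp_apply, ← LinearMap.baseChange_comp,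
          show K'.mkQ ∘ₗ d' = 0 from LinearMap.ext fun m => (Submodule.Quotient.mk_eq_zero _).2 ⟨m, rfl⟩,
          LinearMap.baseChange_zero, LinearMap.zero_apply]
      rw [show c ⊗ₜ[A] K'.mkQ x = c • ((1 : k) ⊗ₜ[A] K'.mkQ x) by rw [TensorProduct.smul_tmul', smul_eq_mul, mul_one],
        h1, smul_zero]
  have hsupp : (⟨p, inferInstance⟩ : PrimeSpectrum A) ∉ Module.support A ((LinearMap.ker e) ⧸ K') := fun hm =>
    not_subsingleton_iff_nontrivial.2
      ((Module.mem_support_iff_nontrivial_residueField_tensorProduct _).1 hm) hsub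
  rw [Module.support_eq_zeroLocus, PrimeSpectrum.mem_zeroLocus] at hsupp
  obtain ⟨r, hr, hrp⟩ := Set.not_subset.1 hsupp
  have hmem : ∀ n, r • P n ∈ K' := fun n => by
    rw [← Submodule.Quotient.mk_eq_zero, Submodule.Quotient.mk_smul]
    exact Module.mem_annihilator.1 hr _
  obtain ⟨hL, hhL⟩ := Module.projective_lifting_property d'.rangeRestrict
    ((r • P).codRestrict K' hmem) d'.surjective_rangeRestrict
  refine ⟨hL, r * s, mul_mem (show r ∈ p.primeCompl from hrp) hs, fun m => ?_⟩
  have h5 := congrArg (fun x : K' => ((x : LinearMap.ker e) : N)) (LinearMap.congr_fun hhL (d m))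
  refine h5.trans ?_
  show ((r • P (d' m).1 : LinearMap.ker e) : N) = (r * s) • d m
  rw [hP, Submodule.coe_smul, Submodule.coe_smul, smul_smul]
  rfl

/-- Exactness over an extension field gives exactness at `k(p)`. -/
theorem exact_residueField_of_field {S : Type u} [Field S] [Algebra A S] (p : Ideal A) [p.IsPrime]
    (hp : RingHom.ker (algebraMap A S) = p) (d : M →ₗ[A] N) (e : N →ₗ[A] Q)
    (h : ∀ z : N ⊗[A] S, e.rTensor S z = 0 → z ∈ LinearMap.range (d.rTensor S))
    (z : N ⊗[A] p.ResidueField) (hz : e.rTensor p.ResidueField z = 0) :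
    z ∈ LinearMap.range (d.rTensor p.ResidueField) := by
  let k := p.ResidueField
  let ι : k →+* S := Ideal.ResidueField.lift p (algebraMap A S) hp.ge fun a ha =>
    isUnit_iff_ne_zero.2 fun h0 => ha (hp.le h0)
  letI : Algebra k S := ι.toAlgebra
  haveI : IsScalarTower A k S :=
    .of_algebraMap_eq fun a => (Ideal.ResidueField.lift_algebraMap p (algebraMap A S) hp.ge _ a).symm
  obtain ⟨π, hπ⟩ := LinearMap.exists_leftInverse_of_injective (Algebra.linearMap k S)
    (LinearMap.ker_eq_bot.2 (algebraMap k S).injective)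
  let ιA : k →ₗ[A] S := (Algebra.linearMap k S).restrictScalars A
  let πA : S →ₗ[A] k := π.restrictScalars A
  have hπι : πA ∘ₗ ιA = LinearMap.id := LinearMap.ext fun c => LinearMap.congr_fun hπ c
  obtain ⟨w, hw⟩ := h (ιA.lTensor N z) (by
    rw [← LinearMap.comp_apply, LinearMap.rTensor_comp_lTensor, ← LinearMap.lTensor_comp_rTensor,
      LinearMap.comp_apply, hz, map_zero])
  refine ⟨πA.lTensor M w, ?_⟩
  rw [← LinearMap.comp_apply, LinearMap.rTensor_comp_lTensor, ← LinearMap.lTensor_comp_rTensor,
    LinearMap.comp_apply, hw, ← LinearMap.lTensor_comp_apply, hπι, LinearMap.lTensor_id, LinearMap.id_apply]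

end Groth.Agent.H10Coh.FibreLift
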