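import Groth.Agent.H10Coh.FibreLift.HomLift
import Groth.Agent.LeadBC.Chart

/-!
# The fibres as pullbacks over residue fields of points
-/

set_option autoImplicit false
set_option linter.style.haveILetI false

universe u

open AlgebraicGeometry CategoryTheory CategoryTheory.Limits TopologicalSpace Opposite

namespace Groth.Agent.H10Coh.FibreLift

open Groth.Agent.LeadBC

theorem isFrac_resK {A : Type u} [CommRing A] (y : ↑(Spec (CommRingCat.of A))) : IsFrac A (resK y) := fun c => by
  let p := (primeOf y).asIdeal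
  let E := RingEquiv.ofBijective (kToResK y) (ConcreteCategory.bijective_of_isIso
    (Scheme.Spec.residueFieldIso (CommRingCat.of A) y).inv)
  obtain ⟨a, ha, hw⟩ := H02CA.CokerProj.exists_lift_residueField p (fun _ : Fin 1 => E.symm c)
  obtain ⟨w, hw⟩ := hw 0
  refine ⟨a, w, fun h0 => ha (Ideal.algebraMap_residueField_eq_zero.1 (E.injective (h0.trans (map_zero E).symm))),
    ?_⟩
  refine Eq.trans ?_ (congrArg E hw).symm
  rw [map_mul, E.apply_symm_apply]
  rfl

/-- The residue field of a point of an affine open, as an algebra over the sections. -/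
theorem exists_chart_field {Y : Scheme.{u}} {V : Y.Opens} (hV : IsAffineOpen V) (y : Y) (hy : y ∈ V) :
    ∃ φ : Γ(Y, V) →+* Y.residueField y,
      Spec.map (CommRingCat.ofHom φ) ≫ hV.fromSpec = Y.fromSpecResidueField y ∧
      RingHom.ker φ = (hV.primeIdealOf ⟨y, hy⟩).asIdeal ∧
      letI := φ.toAlgebra
      IsFrac Γ(Y, V) (Y.residueField y) := by
  obtain ⟨y', hyy'⟩ : ∃ y' : ↑(Spec (CommRingCat.of Γ(Y, V))), hV.fromSpec y' = y :=
    ⟨hV.primeIdealOf ⟨y, hy⟩, hV.fromSpec_primeIdealOf _⟩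
  subst hyy'
  let ψ := hV.fromSpec.residueFieldMap y'
  let φ : Γ(Y, V) →+* Y.residueField (hV.fromSpec y') := (inv ψ).hom.comp (algebraMap Γ(Y, V) (resK y'))
  have hinj : ∀ a, φ a = 0 ↔ algebraMap Γ(Y, V) (resK y') a = 0 := fun a =>
    map_eq_zero_iff (inv ψ).hom (ConcreteCategory.bijective_of_isIso (inv ψ)).1
  refine ⟨φ, ?_, ?_, fun c => ?_⟩
  · have h : CommRingCat.ofHom φ = CommRingCat.ofHom (algebraMap Γ(Y, V) (resK y')) ≫ inv ψ := rfl
    rw [h, Spec.map_comp, specMap_resK, Category.assoc]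
    have h2 := hV.fromSpec.SpecMap_residueFieldMap_fromSpecResidueField y'
    refine (congrArg (Spec.map (inv ψ) ≫ ·) h2.symm).trans ?_
    rw [← Category.assoc, ← Spec.map_comp, IsIso.hom_inv_id, Spec.map_id, Category.id_comp]
  · ext a
    rw [RingHom.mem_ker, hinj]
    have : y' = hV.primeIdealOf ⟨hV.fromSpec y', hy⟩ := hV.fromSpec.isOpenEmbedding.injective
      (hV.fromSpec_primeIdealOf ⟨hV.fromSpec y', hy⟩).symm
    rw [← this]
    exact (map_eq_zero_iff (kToResK y') (kToResK y').injective).trans Ideal.algebraMap_residueField_eq_zero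
  · obtain ⟨a, w, ha, hw⟩ := isFrac_resK y' (ψ.hom c)
    refine ⟨a, w, fun h => ha ((hinj a).1 h), ?_⟩
    refine Eq.trans ?_ (congrArg (inv ψ).hom hw)
    rw [map_mul]
    exact congrArg (φ a * ·) (ConcreteCategory.congr_hom (IsIso.hom_inv_id ψ) c).symm

end Groth.Agent.H10Coh.FibreLift
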