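import Groth.Agent.H10Coh.FibreLift.Sections
import Groth.Agent.H10Coh.FibreLift.MonoEpi
import Groth.Agent.H10Coh.SheafHom.Flat
import Groth.Agent.H10Coh.Pn.Results
import Groth.Agent.H10Coh.CohLocal

/-!
# Lifting homomorphisms of finite locally free modules from a fibre
-/

set_option autoImplicit false
set_option linter.style.haveILetI false
set_option linter.unusedSectionVars false

universe u

open AlgebraicGeometry CategoryTheory CategoryTheory.Limits TopologicalSpace Opposite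

namespace Groth.Agent.H10Coh.FibreLift

open Groth.Agent.LeadFF Groth.Agent.LeadBC Groth.Agent.H10Coh.SheafHom Groth.Agent.H06Mod

attribute [local instance 10000] Groth.Agent.H10Coh.hasSheafifyAb Groth.Agent.H10Coh.hasWeakSheafifyAb Groth.Agent.H10Coh.hasExtAb Groth.Agent.H10Coh.enoughInjAb

section Scalar

variable {Z : Scheme.{u}} {M N : Z.Modules}

theorem stalkLin_of_ofHom_eq (r : Γ(Z, ⊤)) (v u₀ : M ⟶ N)
    (h : RefHull.ofHom v ⊤ = r • RefHull.ofHom u₀ ⊤) (z : Z) (w : M.presheaf.stalk z) :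
    stalkLin v z w = Z.presheaf.germ ⊤ z trivial r • stalkLin u₀ z w :=
  LinearMap.congr_fun (congrFun (congrArg Subtype.val h) ⟨z, trivial⟩) w

theorem injective_stalkLin_iff_of_ofHom_eq (r : Γ(Z, ⊤)) (hr : IsUnit r) (v u₀ : M ⟶ N)
    (h : RefHull.ofHom v ⊤ = r • RefHull.ofHom u₀ ⊤) (z : Z) :
    (Function.Injective (stalkLin v z) ↔ Function.Injective (stalkLin u₀ z)) ∧
      (Function.Surjective (stalkLin v z) ↔ Function.Surjective (stalkLin u₀ z)) := by
  obtain ⟨c, hc⟩ := hr.map (Z.presheaf.germ ⊤ z trivial).hom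
  have e : ∀ w, stalkLin v z w = (c : Z.presheaf.stalk z) • stalkLin u₀ z w := fun w =>
    (stalkLin_of_ofHom_eq r v u₀ h z w).trans (by rw [hc])
  have hb : Function.Bijective (fun w : N.presheaf.stalk z => (c : Z.presheaf.stalk z) • w) := by
    refine ⟨fun a b hab => ?_, fun b => ⟨(↑c⁻¹ : Z.presheaf.stalk z) • b, ?_⟩⟩
    · simpa [smul_smul] using congrArg ((↑c⁻¹ : Z.presheaf.stalk z) • ·) hab
    · simp [smul_smul]
  have e' : ⇑(stalkLin v z) = (fun w => (c : Z.presheaf.stalk z) • w) ∘ stalkLin u₀ z := funext e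
  rw [e']
  exact ⟨Function.Injective.of_comp_iff hb.1 _, Function.Surjective.of_comp_iff' hb _⟩

end Scalar

variable {A : Type u} [CommRing A] {X : Scheme.{u}} [X.Over (Spec (CommRingCat.of A))]
  {K : Type u} [Field K] [Algebra A K] {X' : Scheme.{u}} [X'.Over (Spec (CommRingCat.of K))] {q : X' ⟶ X}
  (hsq : IsPullback q (X' ↘ Spec (CommRingCat.of K)) (X ↘ Spec (CommRingCat.of A))
    (Spec.map (CommRingCat.ofHom (algebraMap A K))))
  {F G : X.Modules}

include hsq in
/-- The lifted homomorphisms may be multiplied by scalars of the base. -/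
theorem exists_smul_lift (hF : FlatMod.IsFinLocFree F) (hG : FlatMod.IsFinLocFree G) (b : A) (u : F ⟶ G) :
    ∃ u' : F ⟶ G, RefHull.ofHom ((Scheme.Modules.pullback q).map u') ⊤ =
      scal (X' ↘ Spec (CommRingCat.of K)) ⊤ (algebraMap A K b) •
        RefHull.ofHom ((Scheme.Modules.pullback q).map u) ⊤ := by
  haveI := isAffineHom_fst hsq
  haveI : F.IsQuasicoherent := H8Props.FinLocFree.isQCoh_of_isFinLocFree F hF
  haveI : G.IsQuasicoherent := H8Props.FinLocFree.isQCoh_of_isFinLocFree G hG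
  obtain ⟨c, hc⟩ := exists_pullIso (G := G) q hF
  obtain ⟨u', hu'⟩ := ofHom_surjective
    (scal (X ↘ Spec (CommRingCat.of A)) ⊤ b • RefHull.ofHom u ⊤)
  refine ⟨u', ?_⟩
  rw [← hc, ← hc, hu', OmegaSh.pullSect_smul, app_scal hsq ⊤ b]
  exact c.hom.app_smul _ _

include hsq in
/-- If `H¹` of the sheaf Hom on the fibre vanishes, homomorphisms lift up to a scalar. -/
theorem exists_hom_lift [IsNoetherianRing A] [IsProper (X ↘ Spec (CommRingCat.of A))]
    [Flat (X ↘ Spec (CommRingCat.of A))] (hfrac : IsFrac A K) (hF : FlatMod.IsFinLocFree F)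
    (hG : FlatMod.IsFinLocFree G) [DCoh.HasSheafHom (qF q F)]
    (h1 : Subsingleton (Coh.HH X' ((DCoh.sheafHom (qF q F)).obj (qF q G)) 1)) (u₀ : qF q F ⟶ qF q G) :
    ∃ a : A, algebraMap A K a ≠ 0 ∧ ∃ u : F ⟶ G, RefHull.ofHom ((Scheme.Modules.pullback q).map u) ⊤ =
      scal (X' ↘ Spec (CommRingCat.of K)) ⊤ (algebraMap A K a) • RefHull.ofHom u₀ ⊤ := by
  haveI := isAffineHom_fst hsq
  haveI : IsLocallyNoetherian X := LocallyOfFiniteType.isLocallyNoetherian (X ↘ Spec (CommRingCat.of A))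
  haveI : F.IsQuasicoherent := H8Props.FinLocFree.isQCoh_of_isFinLocFree F hF
  haveI : G.IsQuasicoherent := H8Props.FinLocFree.isQCoh_of_isFinLocFree G hG
  obtain ⟨c, hc⟩ := exists_pullIso (G := G) q hF
  have hH := isFinLocFree_homSh hF hG
  have hHc : Coh.IsCoh (RefHull.homSh F G) :=
    ⟨H8Props.FinLocFree.isQCoh_of_isFinLocFree _ hH,
      H29Fitt.isFT_of_isFP _ (H8Props.FinLocFree.isFP_of_isFinLocFree _ hH)⟩
  haveI := hHc.1
  have h1' : Subsingleton (Coh.HH X' (qF q (RefHull.homSh F G)) 1) :=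
    H10Coh.subsingleton_HH_of_iso (homShIso (qF q F) (qF q G) ≪≫ c.symm) 1 h1
  obtain ⟨a, ha, s, hs⟩ := exists_pullSect_eq (RefHull.homSh F G) hsq hfrac hHc (isFlatOver_of_isFinLocFree _ _ hH)
    h1' (c.inv.app ⊤ (RefHull.ofHom u₀ ⊤))
  obtain ⟨u, rfl⟩ := ofHom_surjective s
  refine ⟨a, ha, u, ?_⟩
  rw [← hc, hs]
  refine (c.hom.app_smul _ _).trans (congrArg (_ • ·) ?_)
  exact congr($(congrArg (fun k => Scheme.Modules.Hom.app k ⊤) c.inv_hom_id) (RefHull.ofHom u₀ ⊤))

end Groth.Agent.H10Coh.FibreLift
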