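import Groth.Agent.H10Coh.FibreLift.Algebra
import Groth.Agent.LeadBC.Basic

/-!
# Čech cocycles of degree zero with coefficients in a fibre, when `H¹` of the fibre vanishes
-/

set_option autoImplicit false
set_option linter.style.haveILetI false
set_option linter.unusedSectionVars false

universe u

open AlgebraicGeometry CategoryTheory CategoryTheory.Limits TopologicalSpace Opposite
open scoped TensorProduct

namespace Groth.Agent.H10Coh.FibreLift

open Groth.Agent.LeadFF Groth.Agent.LeadBC Groth.Agent.H02CA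

variable {A : Type u} [CommRing A] {X : Scheme.{u}} [X.Over (Spec (CommRingCat.of A))] {ι : Type u} [Finite ι]
  {U : ι → X.Opens} {F : X.Modules} [F.IsQuasicoherent]

/-- A model has, near a point with vanishing first cohomology, all degree zero fibre cocycles spanned by cocycles. -/
theorem ker_dK0_rTensor_le [IsNoetherianRing A] (hU : GoodCover U) (m : Model (A := A) X F U)
    (S : Type u) [Field S] [Algebra A S] {X' : Scheme.{u}} [X'.Over (Spec (CommRingCat.of S))] {q : X' ⟶ X}
    (hsq : IsPullback q (X' ↘ Spec (CommRingCat.of S)) (X ↘ Spec (CommRingCat.of A))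
      (Spec.map (CommRingCat.ofHom (algebraMap A S))))
    (h1 : Subsingleton (Coh.HH X' (qF q F) 1))
    (z : Kp A U F 0 ⊗[A] S) (hz : (dK A U F 0).rTensor S z = 0) :
    z ∈ LinearMap.range ((LinearMap.ker (dK A U F 0)).subtype.rTensor S) := by
  let p := RingHom.ker (algebraMap A S)
  haveI : p.IsPrime := RingHom.ker_isPrime _
  let N : ℤ := (m.N : ℤ) - ((0 : ℕ) : ℤ)
  let N1 : ℤ := (m.N : ℤ) - ((1 : ℕ) : ℤ)
  have hN1 : N1 + 1 = N := by simp [N, N1]
  -- the quasi-inverse of the top differential of the model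
  let d := (m.P.d N N1).hom
  let e := (m.P.d N1 (N1 - 1)).hom
  obtain ⟨hfN, hpN⟩ : Module.Finite A (m.P.X N) ∧ Module.Free A (m.P.X N) := m.finite_free N
  obtain ⟨hf1, hp1⟩ : Module.Finite A (m.P.X N1) ∧ Module.Free A (m.P.X N1) := m.finite_free N1
  obtain ⟨hf2, hp2⟩ : Module.Finite A (m.P.X (N1 - 1)) ∧ Module.Free A (m.P.X (N1 - 1)) := m.finite_free (N1 - 1)
  obtain ⟨E, -⟩ := Model.exists_bcEquiv S hsq hU m 1
  have hT : Subsingleton (CohIII.T m.P N1 (ModuleCat.of A S)) := E.toEquiv.subsingleton_congr.2 h1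
  have hqi : CokerProj.QuasiInv d p.primeCompl :=
    quasiInv_of_fibre_exact d e (H06FlatCx.d_comp_d m.P N N1 (N1 - 1)) p fun w hw =>
      exact_residueField_of_field p rfl d e (fun w hw => (H06FlatCx.tcls_eq_zero_iff m.P
        ((H06FlatCx.down_prev N1).trans hN1) (H06FlatCx.down_next N1) (ModuleCat.of A S) ⟨w, hw⟩).1
        (hT.elim _ _)) w hw
  -- transport of `z`
  let K := KD U F m.N (A := A)
  let e0 := ((KC A U F).extendXIso (embN m.N) (show (embN m.N).f 0 = N from rfl))
  let e1 := ((KC A U F).extendXIso (embN m.N) (show (embN m.N).f 1 = N1 from rfl))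
  let e0h : K.X N →ₗ[A] Kp A U F 0 := e0.hom.hom
  let e0i : Kp A U F 0 →ₗ[A] K.X N := e0.inv.hom
  have he : e0h ∘ₗ e0i = LinearMap.id := congrArg ModuleCat.Hom.hom e0.inv_hom_id
  let e1i : Kp A U F (0 + 1) →ₗ[A] K.X N1 := e1.inv.hom
  let e1h : K.X N1 →ₗ[A] Kp A U F (0 + 1) := e1.hom.hom
  have he1 : e1h ∘ₗ e1i = LinearMap.id := congrArg ModuleCat.Hom.hom e1.inv_hom_id
  have hd : (K.d N N1).hom = e1i ∘ₗ dK A U F 0 ∘ₗ e0h := by
    rw [(KC A U F).extend_d_eq (embN m.N) (show (embN m.N).f 0 = N from rfl)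
      (show (embN m.N).f 1 = N1 from rfl), KC_d]
    rfl
  have hz' : (K.d N N1).hom.rTensor S (e0i.rTensor S z) = 0 := by
    rw [hd, ← LinearMap.comp_apply, ← LinearMap.rTensor_comp, LinearMap.comp_assoc, LinearMap.comp_assoc,
      he, LinearMap.comp_id, LinearMap.rTensor_comp, LinearMap.comp_apply, hz, map_zero]
  have hjk : (ComplexShape.down ℤ).next N = N1 := (H06FlatCx.down_next N).trans (by omega)
  obtain ⟨t, ht⟩ := (m.qis N (ModuleCat.of A S)).2 (H06FlatCx.tcls K hjk (ModuleCat.of A S) ⟨_, hz'⟩)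
  obtain ⟨w, rfl⟩ := H06FlatCx.tcls_surjective m.P hjk _ t
  have hbd := (H06FlatCx.cls_eq_iff (CohIII.tensorObj K (ModuleCat.of A S)) (H06FlatCx.down_prev N) hjk _ _).1
    ((H06FlatCx.homologyMap_cls (tensorφ A m.φ (ModuleCat.of A S)) hjk w).symm.trans ht)
  have hzero : Subsingleton ((K.X (N + 1)) ⊗[A] S) := by
    haveI : Subsingleton (K.X (N + 1)) := ModuleCat.subsingleton_of_isZero
      ((KC A U F).isZero_extend_X (embN m.N) (N + 1) fun p hp => by rw [embN_f] at hp; omega)
    infer_instance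
  have hw' : (m.φ.f N).hom.rTensor S w.1 = e0i.rTensor S z := by
    obtain ⟨b, hb⟩ := hbd
    have hb0 : b = 0 := @Subsingleton.elim _ hzero _ _
    rw [hb0, map_zero] at hb
    exact sub_eq_zero.1 hb.symm
  -- spanning in the model
  obtain ⟨v, hv⟩ := hqi.ker_baseChange_le S (fun s hs => isUnit_iff_ne_zero.2 hs)
    (show d.baseChange S ((TensorProduct.comm A S (m.P.X N)).symm w.1) = 0 from
      (TensorProduct.comm A S (m.P.X N1)).injective (by
        rw [comm_baseChange, LinearEquiv.apply_symm_apply, map_zero]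
        exact LinearMap.mem_ker.1 w.2))
  have hmem : ∀ x : LinearMap.ker d, e0h ((m.φ.f N).hom x.1) ∈ LinearMap.ker (dK A U F 0) := fun x => by
    have h2 : (K.d N N1).hom ((m.φ.f N).hom x.1) = 0 :=
      (ConcreteCategory.congr_hom (m.φ.comm N N1) x.1).trans
        ((congrArg (m.φ.f N1).hom (LinearMap.mem_ker.1 x.2)).trans (map_zero _))
    rw [hd] at h2
    exact LinearMap.mem_ker.2 ((LinearMap.congr_fun he1 _).symm.trans ((congrArg e1h h2).trans (map_zero e1h)))
  let ψ : LinearMap.ker d →ₗ[A] LinearMap.ker (dK A U F 0) :=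
    ((e0h ∘ₗ (m.φ.f N).hom) ∘ₗ (LinearMap.ker d).subtype).codRestrict _ hmem
  refine ⟨ψ.rTensor S (TensorProduct.comm A S (LinearMap.ker d) v), ?_⟩
  rw [← LinearMap.comp_apply, ← LinearMap.rTensor_comp,
    show (LinearMap.ker (dK A U F 0)).subtype ∘ₗ ψ = (e0h ∘ₗ (m.φ.f N).hom) ∘ₗ (LinearMap.ker d).subtype
      from LinearMap.ext fun x => rfl,
    LinearMap.rTensor_comp, LinearMap.comp_apply, ← comm_baseChange, hv, LinearEquiv.apply_symm_apply,
    LinearMap.rTensor_comp, LinearMap.comp_apply, hw', ← LinearMap.comp_apply, ← LinearMap.rTensor_comp,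
    he,
    LinearMap.rTensor_id, LinearMap.id_apply]

end Groth.Agent.H10Coh.FibreLift
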