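import Groth.Agent.H10Coh.FibreLift.ModelKer
import Groth.Agent.H10Coh.Local

/-!
# Sections over a fibre with vanishing `H¹` come from global sections
-/

set_option autoImplicit false
set_option linter.style.haveILetI false
set_option linter.unusedSectionVars false

universe u

open AlgebraicGeometry CategoryTheory CategoryTheory.Limits TopologicalSpace Opposite
open scoped TensorProduct

namespace Groth.Agent.H10Coh.FibreLift

open Groth.Agent.LeadFF Groth.Agent.LeadBC Groth.Agent.H15Site

section Glue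

variable {A : Type u} [CommRing A] {X : Scheme.{u}} [X.Over (Spec (CommRingCat.of A))] {ι : Type u}
  {U : ι → X.Opens} (G : X.Modules)

theorem resL_resL {V W Z : X.Opens} (h : W ≤ V) (h' : Z ≤ W) (x : sec A G V) :
    resL A G h' (resL A G h x) = resL A G (h'.trans h) x :=
  res_res_mod G h h' (show Γ(G, V) from x)

/-- The restriction of a global section to the cover is a cocycle. -/
theorem dK_resL (s : sec A G ⊤) :
    dK A U G 0 (fun a => resL A G (le_top : CechTop.cap U a ≤ ⊤) s) = 0 := by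
  funext c
  rw [dK_apply, Fin.sum_univ_two]
  simp only [Fin.val_zero, Fin.val_one, pow_zero, pow_one, one_smul, neg_smul, resL_resL]
  exact add_neg_cancel _

/-- Sections of degree zero cocycles glue. -/
theorem exists_of_dK_eq_zero (hU : GoodCover U) (v : Kp A U G 0) (hv : dK A U G 0 v = 0) :
    ∃ s : sec A G ⊤, ∀ a, resL A G (le_top : CechTop.cap U a ≤ ⊤) s = v a := by
  have hcov : (⊤ : X.Opens) ≤ iSup fun a : Fin 1 → ι => CechTop.cap U a := by
    refine hU.cover.trans (iSup_le fun i => le_iSup_of_le (fun _ => i) ?_)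
    exact le_iInf fun _ => le_rfl
  have key : ∀ a b : Fin 1 → ι,
      G.presheaf.map (Opens.infLELeft (CechTop.cap U a) (CechTop.cap U b)).op (show Γ(G, _) from v a) =
        G.presheaf.map (Opens.infLERight (CechTop.cap U a) (CechTop.cap U b)).op (show Γ(G, _) from v b) := by
    intro a b
    let c : Fin 2 → ι := ![a 0, b 0]
    have h1 : c ∘ (1 : Fin 2).succAbove = a := funext fun k => by fin_cases k; rfl
    have h0 : c ∘ (0 : Fin 2).succAbove = b := funext fun k => by fin_cases k; rfl
    have hle : CechTop.cap U a ⊓ CechTop.cap U b ≤ CechTop.cap U c := le_iInf fun k => by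
      fin_cases k
      · exact inf_le_left.trans (iInf_le _ 0)
      · exact inf_le_right.trans (iInf_le _ 0)
    have h := congrFun hv c
    rw [dK_apply, Fin.sum_univ_two] at h
    simp only [Fin.val_zero, Fin.val_one, pow_zero, pow_one, one_smul, neg_smul, Pi.zero_apply] at h
    have h' := congrArg (resL A G hle) (add_neg_eq_zero.1 h)
    rw [resL_resL, resL_resL] at h'
    have e : ∀ (a' b' : Fin 1 → ι) (ha : a' = a) (hb : b' = b) (g : CechTop.cap U a ⊓ CechTop.cap U b ≤ CechTop.cap U a')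
        (g' : CechTop.cap U a ⊓ CechTop.cap U b ≤ CechTop.cap U b'),
        resL A G g' (v b') = resL A G g (v a') → resL A G inf_le_right (v b) = resL A G inf_le_left (v a) := by
      rintro a' b' rfl rfl g g' h; exact h
    exact (e _ _ h1 h0 _ _ h').symm
  obtain ⟨s, hs, -⟩ := TopCat.Sheaf.existsUnique_gluing' (sheafOf G) (fun a : Fin 1 → ι => CechTop.cap U a) ⊤
    (fun a => homOfLE le_top) hcov (fun a => (show Γ(G, CechTop.cap U a) from v a)) key
  exact ⟨s, hs⟩

end Glue

theorem topLe {X X' : Scheme.{u}} (q : X' ⟶ X) : (⊤ : X'.Opens) ≤ q ⁻¹ᵁ (⊤ : X.Opens) := fun _ _ => trivial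

variable {A : Type u} [CommRing A] {X : Scheme.{u}} [X.Over (Spec (CommRingCat.of A))]
  (S : Type u) [CommRing S] [Algebra A S] {X' : Scheme.{u}} [X'.Over (Spec (CommRingCat.of S))] {q : X' ⟶ X}
  (hsq : IsPullback q (X' ↘ Spec (CommRingCat.of S)) (X ↘ Spec (CommRingCat.of A))
    (Spec.map (CommRingCat.ofHom (algebraMap A S))))
  (F : X.Modules) [F.IsQuasicoherent] {ι : Type u} [Finite ι] {U : ι → X.Opens}

/-- If cocycles with coefficients in `S` are spanned by cocycles, global sections generate those of the pullback. -/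
theorem surjective_β_top (hU : GoodCover U)
    (hker : ∀ z : Kp A U F 0 ⊗[A] S, (dK A U F 0).rTensor S z = 0 →
      z ∈ LinearMap.range ((LinearMap.ker (dK A U F 0)).subtype.rTensor S)) :
    Function.Surjective (β S hsq F (topLe q)) := by
  intro σ
  let v : Kp S (preU q U) (qF q F) 0 := fun a => resL S (qF q F) le_top (show Γ(qF q F, ⊤) from σ)
  have hv : dK S (preU q U) (qF q F) 0 v = 0 := dK_resL (qF q F) _
  obtain ⟨z, hz⟩ := (bijective_βp S hsq F U hU 0).2 v
  have hz0 : (dK A U F 0).rTensor S z = 0 := (bijective_βp S hsq F U hU (0 + 1)).1 (by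
    rw [map_zero]
    refine (βp_d S hsq F U 0 z).symm.trans ?_
    exact (congrArg (dK S (preU q U) (qF q F) 0) hz).trans hv)
  obtain ⟨w, hw⟩ := hker z hz0
  let ρ : sec A F ⊤ →ₗ[A] LinearMap.ker (dK A U F 0) :=
    (LinearMap.pi fun a => resL A F (le_top : CechTop.cap U a ≤ ⊤)).codRestrict _ fun s =>
      LinearMap.mem_ker.2 (dK_resL F s)
  have hρ : Function.Surjective ρ := fun x => by
    obtain ⟨s, hs⟩ := exists_of_dK_eq_zero F hU x.1 (LinearMap.mem_ker.1 x.2)
    exact ⟨s, Subtype.ext (funext hs)⟩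
  obtain ⟨t, rfl⟩ := LinearMap.rTensor_surjective S hρ w
  refine ⟨t, ?_⟩
  refine TopCat.Sheaf.eq_of_locally_eq' (sheafOf (qF q F)) (fun a : Fin 1 → ι => CechTop.cap (preU q U) a) ⊤
    (fun a => homOfLE le_top) ?_ _ _ fun a => ?_
  · exact (goodCover_preU S q hsq U hU).cover.trans
      (iSup_le fun i => le_iSup_of_le (fun _ => i) (le_iInf fun _ => le_rfl))
  · show resL S (qF q F) le_top (β S hsq F (topLe q) t) = v a
    rw [β_res S hsq F (topLe q) (cap_preU q U a).le (le_top : CechTop.cap U a ≤ ⊤) le_top t]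
    refine Eq.trans ?_ (congrFun hz a)
    show β S hsq F _ ((resL A F _).rTensor S t) = β S hsq F _ ((LinearMap.proj a).rTensor S z)
    rw [← hw, ← LinearMap.rTensor_comp_apply, ← LinearMap.rTensor_comp_apply]
    rfl

section Field

/-- Scalars of `S` are fractions of scalars of `A`. -/
def IsFrac (A S : Type u) [CommRing A] [CommRing S] [Algebra A S] : Prop :=
  ∀ c : S, ∃ a w : A, algebraMap A S a ≠ 0 ∧ algebraMap A S a * c = algebraMap A S w

variable {K : Type u} [Field K] [Algebra A K] {X'' : Scheme.{u}} [X''.Over (Spec (CommRingCat.of K))]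
  {q' : X'' ⟶ X}
  (hsq' : IsPullback q' (X'' ↘ Spec (CommRingCat.of K)) (X ↘ Spec (CommRingCat.of A))
    (Spec.map (CommRingCat.ofHom (algebraMap A K))))

theorem exists_tmul_one (hfrac : IsFrac A K) {M : Type u} [AddCommGroup M] [Module A M] (t : M ⊗[A] K) :
    ∃ a : A, algebraMap A K a ≠ 0 ∧ ∃ m : M,
      (LinearMap.mulLeft A (algebraMap A K a)).lTensor M t = m ⊗ₜ[A] (1 : K) := by
  induction t using TensorProduct.induction_on with
  | zero => exact ⟨1, by simp, 0, by simp⟩
  | tmul m c =>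
    obtain ⟨a, w, ha, hw⟩ := hfrac c
    exact ⟨a, ha, w • m, by
      rw [LinearMap.lTensor_tmul, LinearMap.mulLeft_apply, hw, TensorProduct.smul_tmul, Algebra.smul_def, mul_one]⟩
  | add t t' ht ht' =>
    obtain ⟨a, ha, m, hm⟩ := ht
    obtain ⟨a', ha', m', hm'⟩ := ht'
    refine ⟨a' * a, by rw [map_mul]; exact mul_ne_zero ha' ha, a' • m + a • m', ?_⟩
    rw [map_mul, LinearMap.mulLeft_mul, LinearMap.lTensor_comp, LinearMap.comp_apply, map_add, map_add, hm]
    rw [TensorProduct.add_tmul, ← TensorProduct.smul_tmul', ← TensorProduct.smul_tmul']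
    refine congrArg₂ (· + ·) ?_ ?_
    · rw [LinearMap.lTensor_tmul, LinearMap.mulLeft_apply, ← Algebra.smul_def, TensorProduct.tmul_smul]
    · rw [← LinearMap.comp_apply, ← LinearMap.lTensor_comp, ← LinearMap.mulLeft_mul, mul_comm,
        LinearMap.mulLeft_mul, LinearMap.lTensor_comp, LinearMap.comp_apply, hm', LinearMap.lTensor_tmul,
        LinearMap.mulLeft_apply, ← Algebra.smul_def, TensorProduct.tmul_smul]

include hsq' in
/-- When `H¹` of the fibre vanishes, every section over the fibre is, up to a scalar, a global section. -/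
theorem exists_pullSect_eq [IsNoetherianRing A] [IsProper (X ↘ Spec (CommRingCat.of A))] (hfrac : IsFrac A K)
    (hF : Coh.IsCoh F) (hfl : FlatMod.IsFlatOver (X ↘ Spec (CommRingCat.of A)) F)
    (h1 : Subsingleton (Coh.HH X'' (qF q' F) 1)) (σ : Γ(qF q' F, ⊤)) :
    ∃ a : A, algebraMap A K a ≠ 0 ∧ ∃ s : Γ(F, ⊤),
      OmegaSh.pullSect q' F ⊤ s =
        scal (X'' ↘ Spec (CommRingCat.of K)) ⊤ (algebraMap A K a) • σ := by
  obtain ⟨ι, hι, U, hU, ⟨m⟩⟩ := exists_model A F hF hfl
  obtain ⟨t, ht⟩ := surjective_β_top K hsq' F hU (fun z hz => ker_dK0_rTensor_le hU m K hsq' h1 z hz) σ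
  subst ht
  obtain ⟨a, ha, s, hs⟩ := exists_tmul_one hfrac t
  refine ⟨a, ha, s, ?_⟩
  refine Eq.trans ?_ (β_mul K hsq' F (topLe q') (algebraMap A K a) t)
  rw [hs, β_tmul, map_one, one_smul]
  exact (ConcreteCategory.congr_hom ((qF q' F).presheaf.map_id (op ⊤)) (OmegaSh.pullSect q' F ⊤ _)).symm

end Field

end Groth.Agent.H10Coh.FibreLift
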